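import Groth.Agent.LoccohB.FlatPerf
import Groth.Agent.LoccohB.PCChange
import Groth.Agent.Flat2H.PCFinal

/-!
# Restriction of scalars along a perfect surjective ring map preserves perfect complexes
-/

set_option autoImplicit false

universe u

open CategoryTheory CategoryTheory.Limits CategoryTheory.Pretriangulated ZeroObject

attribute [local instance] HasDerivedCategory.standard

namespace Groth.Agent.Pic13.H935.PerfRestr

open Groth.Agent.Flat2H Groth.Agent.Flat2H.TorDim Groth.Agent.LoccohB

variable {R S : Type u} [CommRing R] [CommRing S]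

/-- If `S` is `FP_∞` over `R` (through `ψ`) and of finite tor dimension over `R`, every finite
projective `S`-module is a perfect `R`-module. -/
theorem isPerfect_inD_of_projective (ψ : R →+* S) (h : PCMap ψ)
    (hd : letI := ψ.toAlgebra; DRing.HasFiniteTorDim R S)
    (P : Type u) [AddCommGroup P] [Module S P] [Module.Finite S P] [Module.Projective S P] :
    DRing.IsPerfect R ((DRing.restrictD ψ).obj (Dual.inD S P)) := by
  let _ := ψ.toAlgebra
  let _ : Module R P := Module.compHom P ψ
  have : IsScalarTower R S P := ⟨fun r s p => by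
    change (ψ r * s) • p = ψ r • (s • p)
    rw [mul_smul]⟩
  obtain ⟨n, hn⟩ := hd
  have h1 : FPInf R P := (FPInf.tower_iff (R := R) (S := S) (M := P) h).1 (FPInf.of_projective P)
  have h2 : DRing.HasTorDimLE R (n + 0) P :=
    HasTorDimLE.trans R S hn (HasTorDimLE.of_flat 0)
  exact PerfTri.isPerfect_of_iso (FlatPerf.restrictDInD ψ P).symm
    (FlatPerf.isPerfect_inD_of_fpInf _ h1 h2)

/-- Objects of `D(S)` with perfect restriction to `D(R)`. -/
def T (ψ : R →+* S) : ObjectProperty (Dual.D S) :=
  fun K => DRing.IsPerfect R ((DRing.restrictD ψ).obj K)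

instance (ψ : R →+* S) : (T ψ).IsClosedUnderIsomorphisms where
  of_iso e h := PerfTri.isPerfect_of_iso ((DRing.restrictD ψ).mapIso e) h

lemma isPerfect_of_isZero {K : Dual.D R} (h : IsZero K) : DRing.IsPerfect R K :=
  PerfTri.isPerfect_of_iso (K := Dual.inD R PUnit)
    (IsZero.iso ((DerivedCategory.singleFunctor (ModuleCat.{u} R) 0).map_isZero
      (ModuleCat.isZero_of_subsingleton _)) h)
    (PerfTri.isPerfect_inD_of_projective PUnit)

instance (ψ : R →+* S) : (T ψ).IsTriangulated where
  exists_zero := ⟨0, isZero_zero _, isPerfect_of_isZero ((DRing.restrictD ψ).map_isZero (isZero_zero _))⟩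
  isStableUnderShiftBy a :=
    ⟨fun X hX => PerfTri.isPerfect_of_iso (((DRing.restrictD ψ).commShiftIso a).app X).symm
      (PerfTri.isPerfect_shift a hX)⟩
  toIsTriangulatedClosed₂ := ObjectProperty.IsTriangulatedClosed₂.mk' (fun Δ hΔ h₁ h₃ =>
    PerfTri.isPerfect_obj₂ ((DRing.restrictD ψ).map_distinguished Δ hΔ) h₁ h₃)

/-- Restriction of scalars along `ψ : R → S` preserves perfect complexes when `S` is `FP_∞` and of finite
tor dimension over `R`. -/
theorem isPerfect_restrictD (ψ : R →+* S) (h : PCMap ψ)
    (hd : letI := ψ.toAlgebra; DRing.HasFiniteTorDim R S) (K : Dual.D S) (hK : DRing.IsPerfect S K) :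
    DRing.IsPerfect R ((DRing.restrictD ψ).obj K) := by
  obtain ⟨E, a, b, hE, hE', ⟨e⟩⟩ := hK
  have h1 : T ψ (DerivedCategory.Q.obj E) :=
    PerfB.BoundedInd.bounded_induction (T ψ) E a b hE (fun i => by
      have := (hE' i).1
      have := (hE' i).2
      exact isPerfect_inD_of_projective ψ h hd (E.X i))
  exact (T ψ).prop_of_iso e h1

/-- A surjective pseudo-coherent ring map makes the target `FP_∞` as a module. -/
theorem pcMap_of_surjective {A B : Type u} [CommRing A] [CommRing B] [Algebra A B]
    (hs : Function.Surjective (algebraMap A B)) (h : PCHom A B) : PCMap (algebraMap A B) := by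
  let φ : MvPolynomial (Fin 0) A →ₐ[A] B := MvPolynomial.aeval (Fin.elim0)
  have hφ : φ.toRingHom.comp (MvPolynomial.C : A →+* MvPolynomial (Fin 0) A) = algebraMap A B := by
    ext r; simp [φ]
  have hsur : Function.Surjective φ := fun b => by
    obtain ⟨a, rfl⟩ := hs b
    exact ⟨MvPolynomial.C a, by simp [φ]⟩
  have h1 := h.pcMap φ hsur
  rw [← hφ]
  exact (PCMap.comp_bij_iff ⟨MvPolynomial.C_injective _ _, MvPolynomial.C_surjective _⟩).2 h1

/-- Restriction of scalars along a surjective perfect ring map preserves perfect complexes. -/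
theorem isPerfect_restrictD_of_isPerfectHom (ψ : R →+* S) (hs : Function.Surjective ψ)
    (h : letI := ψ.toAlgebra; MoreMor.IsPerfectHom R S) (K : Dual.D S) (hK : DRing.IsPerfect S K) :
    DRing.IsPerfect R ((DRing.restrictD ψ).obj K) := by
  let _ := ψ.toAlgebra
  have h1 : PCHom R S := isPseudoCoherentHom_iff.1 h.1
  exact isPerfect_restrictD ψ (pcMap_of_surjective (A := R) (B := S) hs h1) h.2 K hK

end Groth.Agent.Pic13.H935.PerfRestr
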